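import Cfsg.Agent.R3.Tw
import Cfsg.Agent.Known.McLTab
import Cfsg.Agent.Known.P.U43

/-! The rank 3 action of the McLaughlin group on 275 points (helper22): the hypotheses of `equiv_of_loc`. -/

set_option autoImplicit false
set_option maxRecDepth 100000
set_option exponentiation.threshold 100000

namespace Cfsg.Agent.R3.Mc

open MulAction Equiv Cfsg.Agent.Comp Cfsg.Agent.Perm Cfsg.Agent.Known McLP
open scoped Pointwise

abbrev X : Type := Fin (274 + 1)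

abbrev E : Enc X (274 + 1) := encFin 274

theorem M : Mdl φ (274 + 1) 7 898128000 McLT.y McLT.act [5,4,3,2,1,0] := McLT.mdl

noncomputable scoped instance instActMc : MulAction G X := M.mact

scoped instance instFaithMc : FaithfulSMul G X := M.faithful

scoped instance instFinMc : Finite G := M.finite

theorem par : Par (274 + 1) 9 511 := ⟨by decide, by decide⟩

abbrev pt (i : ℕ) : X := E.dec i

/-- the point stabiliser. -/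
noncomputable abbrev H₀ : Subgroup G := stabilizer G (pt 0)

noncomputable abbrev cd (ws : List (List ℕ)) : List ℕ := cdW (274 + 1) 9 McLT.act ws

def A0 : ℕ := 0x7ff38bdf7a9ec6b4f45dd8a204ed583050c5c54ab40c49a2005a500c8200428820040

def A1 : ℕ := 0xc74208561394b0ba2275dfb12a7cfaf3a3ab54bf3b65dffa5aff37dffbd77dffbe

theorem orbX : orbit G (pt 0) = Set.univ := Set.eq_univ_of_forall fun x =>
  orbit_top (G := G) (pt 0) ▸ orbM_sub (codes_W M par (ws := [[5, 6], [0]]) (K := ⊤) fun _ _ => trivial) (by decide)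
    ((congrArg (fun t : ℕ => t.testBit (E.enc x)) (by decide +kernel : _ = 2 ^ 275 - 1)).trans
      ((Nat.testBit_two_pow_sub_one _ _).trans (decide_eq_true (E.enc_lt x))))

theorem cardX : Nat.card X = 1 + 112 + 162 := Nat.card_eq_fintype_card.trans (Fintype.card_fin _)

theorem cardH₀ : Nat.card H₀ = 3265920 :=
  card_stabilizer_of_orbit (a := 275) (by rw [orbX, Set.ncard_univ, cardX]) (by decide) card

theorem codesH : CodesIn (PRep E 9 511) (cd [[0], [1], [2], [3], [4], [5]]) H₀ :=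
  codes_W M par fun wd hw => fix_W M (bs := [0]) (by decide +kernel) wd hw 0 (by simp)

theorem clH : Subgroup.closure (genSet (PRep E 9 511) (cd [[0], [1], [2], [3], [4], [5]])) = H₀ :=
  closure_eq_of_slpP _ par codesH [1, 2, 3, 4, 5] [] 275 cardH₀ (by decide +kernel)

theorem orbD : orbit H₀ (pt 6) = St E A0 := orbit_eq_orbM codesH clH (by decide +kernel)

theorem orbG : orbit H₀ (pt 1) = St E A1 := orbit_eq_orbM codesH clH (by decide +kernel)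

theorem ncD : (orbit H₀ (pt 6)).ncard = 112 := by rw [orbD, ncard_St]; decide +kernel

theorem ncG : (orbit H₀ (pt 1)).ncard = 162 := by rw [orbG, ncard_St]; decide +kernel

theorem cardJ {x : X} (hx : x ∈ orbit H₀ (pt 6)) : Nat.card ↥(H₀ ⊓ stabilizer G x) = 29160 :=
  card_inf_stabilizer_of_orbit (orbit_eq_iff.2 hx ▸ ncD) (by decide) cardH₀

theorem codes2 {ws : List (List ℕ)} {b : ℕ} (h : allL ws (fun wd => allL [0, b] fun b =>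
    band (Nat.blt b (274 + 1)) (Nat.beq (actW McLT.act wd b) b)) = true) :
    CodesIn (PRep E 9 511) (cd ws) (H₀ ⊓ stabilizer G (pt b)) :=
  codes_W M par fun wd hw => ⟨fix_W M h wd hw 0 (by simp), fix_W M h wd hw b (by simp)⟩

theorem codesJ : CodesIn (PRep E 9 511) (cd [[0, 3, 2, 0], [5, 4, 0]]) (H₀ ⊓ stabilizer G (pt 6)) := codes2 (by decide +kernel)

theorem codesL : CodesIn (PRep E 9 511) (cd [[0], [2], [3], [4]]) (H₀ ⊓ stabilizer G (pt 1)) := codes2 (by decide +kernel)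

def Tw : List (ℕ × List (List ℕ)) := [(166, [[], [5, 1, 5, 4, 2], [2, 4, 5, 0, 5]]), (1, [[], [1, 2, 4, 5, 2, 1, 4, 3], [3, 4, 0, 2, 5, 4,
    2, 0], [0, 5, 3, 0, 2, 0, 5, 1], [0, 2, 4, 1, 5, 4, 0], [3, 1, 4, 0, 3, 0, 5, 1], [3, 4, 0, 4, 5, 2, 3, 0], [1, 5, 4, 5, 1, 4, 1], [0,
    4, 0, 5, 4, 5, 0], [2, 4, 2, 1, 3, 5, 3, 0], [5, 4, 1, 3, 2, 4, 5], [5, 4, 2, 3, 0, 4, 5], [1, 3, 2, 5, 4, 1, 4, 3], [0, 2, 3, 5, 4, 1,
    5, 0], [0, 2, 5, 2, 4, 1], [5, 4, 0, 5, 2, 1, 3, 5], [0, 4, 3, 1, 5, 0, 3, 1, 4], [1, 3, 5, 1, 4, 2, 3], [0, 4, 2, 5, 2, 1], [5, 3, 0,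
    2, 5, 1, 4, 5], [0, 5, 1, 2, 1, 3, 5, 1], [4, 5, 4, 1, 5, 4, 5, 0], [0, 2, 5, 2, 1, 4, 5, 4], [0, 4, 1, 4, 5, 4], [4, 0, 3, 1, 5, 0, 3,
    4, 1], [3, 2, 4, 0, 5, 3, 0], [4, 5, 4, 0, 4, 1]]), (3, [[], [2, 0, 4, 0, 3, 4, 3], [3, 4, 3, 1, 4, 1, 2]]), (2, [[], [0, 4, 0, 3, 2, 3,
    0], [1, 3, 2, 3, 1, 4, 1]])]

noncomputable def Ts : List (ℕ × List ℕ) := mapL (fun z => (z.1, cd z.2)) Tw

theorem codesQ : CodesIn (PRep E 9 511) (flatT Ts) (H₀ ⊓ stabilizer G (pt 6)) :=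
  show CodesIn _ (cd (Tw.flatMap Prod.snd)) _ from codes2 (by decide +kernel)

/-- a Sylow 3-subgroup of the stabiliser. -/
noncomputable def Q : Subgroup G := Subgroup.closure (genSet (PRep E 9 511) (flatT Ts))

theorem Q_le : Q ≤ H₀ ⊓ stabilizer G (pt 6) := codesQ.closure_le fun _ _ _ => PRep.unique

set_option maxHeartbeats 2000000 in
theorem cardQ : Nat.card Q = 3 ^ 6 := card_closure_of_ss par Ts (codesQ.mono le_top) (by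
  have : (forceL (flatT Ts) fun L => (fun Ts => band (ssOK (274 + 1) 9 511 Ts) (band (Nat.ble (lenT Ts) (3 ^ 6))
      (Nat.ble (3 ^ 6) (transOK (274 + 1) 9 511 Ts))))
      [(166, L.take 3), (1, (L.drop 3).take 27), (3, (L.drop 30).take 3), (2, L.drop 33)]) = true := by decide +kernel
  exact (forceL_eq _ _).symm.trans this)

theorem h1 (K : Subgroup G) (hK : K ≤ H₀) (h : Nat.card K * 112 = 3265920) : ∃ g ∈ H₀, K ≤ stabilizer G (g • pt 6) := by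
  have hc : Nat.card K = 29160 := by omega
  obtain ⟨g, hg, hQ⟩ := exists_conj_ge (p := 3) (k := 6) Nat.prime_three hK (Q_le.trans inf_le_left) cardH₀ (by decide)
    (by rw [hc]; decide) (IsPGroup.of_card cardQ)
  refine fix_of_conj hg ⟨1, one_mem _, (one_smul G (pt 6)).symm ▸ le_stab_of_ncard (by_contra fun h0 => ?_)⟩
  have hK' := map_conj_le hK hg
  rw [← card_map_conj g] at hc
  generalize K.map (MulAut.conj g).toMonoidHom = K at hQ hK' hc h0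
  obtain ⟨j, hj⟩ := cardQ ▸ Subgroup.card_dvd_of_le (le_inf hQ (Q_le.trans inf_le_right))
  have e := card_eq_ncard_orbit_mul K (pt 6)
  have hs : orbit K (pt 6) ⊆ St E A0 := orbD ▸ ((inv_orbit H₀ _).mono hK').orbit_sub (mem_orbit_self _)
  rw [hc, hj] at e
  rcases (by decide : ∀ d ∈ Nat.divisors 40, d = 1 ∨ d = 4 ∨ d ∈ [2, 5, 8, 10, 20, 40]) _
    (Nat.mem_divisors.2 ⟨⟨j, by linarith⟩, by decide⟩ : (orbit K (pt 6)).ncard ∈ _) with h5 | h5 | h5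
  · exact h0 h5
  · obtain ⟨c, c2, c3⟩ := Set.exists_ne_of_one_lt_ncard (s := orbit K (pt 6)) (by omega) (pt 6)
    have a1 := card_le_of_inv (Set.toFinite _) ((inv_orbit K (pt 6)).mono (inf_le_left (b := stabilizer G (pt 6)))) c2
    have a0 := allLt_iff.1 ((forceL_eq (cd [[0, 3, 2, 0], [5, 4, 0]]) fun L => allLt 275 fun i => bor (not (tb A0 i))
      (bor (Nat.beq i 6) (Nat.ble 30 (orbLen (274 + 1) 9 511 L i)))).symm.trans (by decide +kernel)) _ (E.enc_lt c)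
    simp only [bor_eq, Bool.or_eq_true, tb_eq, Bool.not_eq_true', nble, nbeq] at a0
    have a2 := (Subgroup.card_le_of_le (inf_le_inf_right (stabilizer G c) (inf_le_inf_right _ hK'))).trans
      (card_stab_le (a := 30) (b := 972) (E.dec_enc c ▸ ((a0.resolve_left (Bool.eq_false_iff.not.2 (not_not.2 (hs c2)))).resolve_left
        fun e => c3 (by rw [← E.dec_enc c, e])).trans (orbLen_le codesJ (E.enc_lt c))) (by decide) (cardJ (mem_orbit_self _)).le)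
    rw [h5] at e a1
    omega
  obtain ⟨_, -, -, h6⟩ := enum_sound codesQ.closure (reps := [6, 17, 126, 166]) (U := A0) (bs := [2, 5, 8, 10, 20, 40])
    (f := fun _ => false) (by decide +kernel) hs ((inv_orbit K (pt 6)).mono hQ) h5
  exact absurd h6 (by decide)

def wA : List (List ℕ) := [[], [6, 2, 0, 5, 0, 5], [6, 5, 3, 5], [6, 5, 1, 5, 0, 4], [6, 0, 4, 1, 6], [6, 0, 5, 3, 6], [6, 4, 1, 5, 6], [6,
    5, 4, 6], [6, 5, 1, 6, 2], [6, 0, 5, 3], [6, 0, 5, 2, 3], [6, 5, 2, 4], [6, 4, 0, 3, 6], [6, 0, 5, 1, 6], [6, 1, 6, 5], [6, 0, 5, 1],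
    [6, 1, 6, 5, 1], [6, 0, 5, 3, 2, 6, 2], [6, 5, 1, 2, 6], [6, 5, 1, 4], [6, 5, 3, 2], [6, 0, 4, 1], [6, 5, 2, 6], [6, 0, 5, 3, 2, 6],
    [6], [6, 0, 2, 1, 3], [6, 2, 1, 5, 6], [6, 0, 3, 1, 5, 1, 6], [6, 4, 0, 3, 6, 1], [6, 4, 1, 5, 6, 1], [6, 4, 1, 5, 0], [6, 0, 4, 6], [6,
    0, 4, 3, 1], [6, 4, 6], [6, 4, 1, 5, 6, 2, 0], [6, 4, 2, 6], [6, 0, 3, 1, 4], [6, 5, 0, 4, 0], [6, 5, 1, 5, 3], [6, 5, 1], [6, 5, 1, 6,
    1], [6, 5, 4, 3], [6, 5, 2, 6, 0], [6, 1, 6], [6, 4, 1, 6], [6, 5, 3, 0, 6], [6, 5, 3, 0, 2], [6, 0, 2, 4, 1], [6, 2, 1, 6], [6, 5, 2,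
    4, 1], [6, 2, 0, 5, 0], [6, 4, 1, 5, 6, 5], [6, 0, 5, 2, 3, 1], [6, 5, 3, 4, 0], [6, 5, 1, 5, 1, 6], [6, 1, 3, 5, 6, 1], [6, 0, 4], [6,
    0, 5, 3, 2], [6, 4, 1, 5, 1], [6, 5, 3], [6, 0, 4, 1, 5], [6, 5, 1, 6], [6, 5, 2, 1, 5], [6, 4, 6, 2], [6, 1, 3, 5, 6], [6, 0, 5, 2],
    [6, 4, 1, 5, 6, 3], [6, 0, 4, 6, 2], [6, 2, 0, 5, 0, 4], [6, 5, 0, 4, 6, 5], [6, 0, 4, 3, 0, 5], [6, 1, 5, 0, 5, 6], [6, 4, 1, 5, 6, 0],
    [6, 5, 0, 2], [6, 0, 5, 0, 6, 5, 0, 2], [6, 1, 5, 3, 1], [6, 4, 1], [6, 0, 2, 3], [6, 5, 4], [6, 5, 3, 2, 3], [6, 0, 2, 6, 1], [6, 2, 0,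
    5], [6, 0, 5, 0, 3], [6, 2, 4, 3, 5], [6, 4, 2, 6, 5], [6, 5, 1, 5, 0, 4, 6], [6, 0, 5, 3, 6, 2], [6, 4, 5, 4], [6, 1, 3, 5, 0], [6, 5,
    4, 2, 6], [6, 2, 1, 5, 0], [6, 0, 5, 0, 3, 6], [6, 0, 4, 1, 2, 6], [6, 0, 5, 3, 4], [6, 5, 1, 2, 4], [6, 2, 4, 5, 6, 5, 3], [6, 0, 2, 6,
    3], [6, 2, 1, 5, 3], [6, 0, 5, 3, 2, 6, 2, 1], [6, 0, 2, 6], [6, 1, 6, 2], [6, 2, 1, 5, 1], [6, 2, 0, 4, 5, 6], [6, 5, 4, 2, 6, 0], [6,
    0, 2, 1], [6, 5, 3, 0], [6, 5, 2, 0], [6, 2, 0, 4], [6, 2, 0, 4, 5], [6, 5, 4, 2, 0], [6, 0, 5, 0, 6, 5, 0], [6, 0, 2, 0], [6, 2, 4, 3,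
    2, 6, 5], [6, 2, 0, 4, 6], [6, 4, 6, 5, 0], [6, 0, 5, 3, 4, 6], [6, 1], [6, 4, 1, 5, 6, 2, 3], [6, 1, 5, 3, 0], [6, 0, 4, 3, 0, 6], [6,
    2, 4, 3], [6, 0, 5, 0], [6, 1, 6, 5, 6, 1, 5, 0], [6, 0, 3, 1], [6, 5, 3, 0, 6, 5, 1], [6, 1, 6, 2, 5, 0], [6, 5, 3, 0, 2, 6], [6, 4, 5,
    4, 3], [6, 2, 4, 5, 0], [6, 2, 0], [6, 2, 4, 3, 2, 6], [6, 2, 4, 5, 6, 0], [6, 0, 2, 4, 6], [6, 5, 4, 2], [6, 2, 1, 5, 1, 6, 5], [6, 0,
    5], [6, 5, 2, 6, 2], [6, 5], [6, 1, 3, 5, 6, 5], [6, 0, 5, 0, 6, 5], [6, 2, 1, 5], [6, 1, 6, 5, 3], [6, 4, 5, 6], [6, 1, 5, 3, 2], [6,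
    1, 6, 5, 3, 6], [6, 4, 1, 5], [6, 4, 1, 5, 6, 3, 0], [6, 4], [6, 0, 3, 1, 5], [6, 0, 4, 1, 2], [6, 1, 3, 5], [6, 5, 1, 2], [6, 1, 6, 5,
    6, 1, 5], [6, 2, 4, 3, 5, 6], [6, 5, 2], [6, 1, 5, 0, 5], [6, 4, 0, 3], [6, 1, 5, 3], [6, 5, 1, 5], [6, 4, 1, 5, 1, 6], [6, 4, 1, 5, 6,
    2], [6, 0, 3, 1, 5, 1], [6, 1, 6, 5, 6], [6, 0, 5, 6], [6, 1, 5, 0, 5, 6, 5], [6, 4, 2], [6, 1, 3, 5, 6, 2], [6, 0, 2, 4, 6, 3, 5], [6,
    2], [6, 0, 4, 3, 0, 5, 6], [6, 0, 5, 0, 3, 6, 5], [6, 0, 3, 1, 5, 6], [6, 4, 5], [6, 5, 0, 4], [6, 5, 2, 6, 0, 6], [6, 0, 4, 3], [6, 0,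
    5, 0, 3, 1], [6, 0, 5, 0, 2], [6, 0, 2, 4], [6, 1, 6, 2, 5], [6, 0, 3], [6, 5, 3, 0, 6, 5], [6, 5, 0, 4, 3], [6, 0, 5, 1, 5], [6, 5, 2,
    1], [6, 5, 1, 5, 0, 6], [6, 0], [6, 4, 1, 5, 6, 3, 4], [6, 5, 3, 4, 2], [6, 0, 2], [6, 1, 6, 5, 1, 5], [6, 0, 5, 0, 3, 6, 0], [6, 0, 5,
    0, 6], [6, 2, 1], [6, 2, 4, 5, 6, 5], [6, 0, 5, 0, 2, 6], [6, 5, 1, 2, 1, 6], [6, 5, 4, 5], [6, 2, 4, 5, 6], [6, 0, 2, 4, 6, 0], [6, 2,
    1, 5, 1, 6], [6, 5, 3, 4], [6, 5, 1, 5, 1, 6, 4], [6, 5, 1, 5, 1], [6, 4, 6, 5], [6, 2, 4, 1, 3], [6, 2, 0, 4, 6, 5], [6, 2, 1, 6, 4],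
    [6, 0, 5, 3, 4, 6, 5], [6, 2, 1, 5, 1, 6, 4], [6, 0, 5, 0, 6, 0], [6, 5, 3, 0, 6, 2], [6, 5, 3, 0, 5], [6, 4, 1, 2], [6, 4, 1, 5, 6, 1,
    3], [6, 1, 5], [6, 4, 1, 2, 6], [6, 2, 4, 5, 6, 0, 5], [6, 1, 5, 1, 3], [6, 0, 2, 4, 6, 5, 1], [6, 0, 4, 3, 0], [6, 0, 5, 3, 2, 6, 4],
    [6, 1, 3, 5, 6, 1, 5], [6, 4, 0], [6, 5, 1, 5, 0], [6, 5, 0], [6, 5, 0, 4, 6, 4], [6, 0, 2, 4, 6, 5, 3], [6, 1, 3, 5, 0, 5], [6, 4, 1,
    2, 6, 3], [6, 4, 6, 5, 6], [6, 5, 0, 4, 6], [6, 5, 3, 4, 6], [6, 5, 1, 2, 1], [6, 4, 5, 6, 0], [6, 2, 0, 4, 6, 5, 2], [6, 1, 5, 1, 3,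
    1], [6, 2, 4, 5, 6, 5, 6], [6, 1, 5, 1], [6, 5, 3, 4, 2, 6], [6, 0, 2, 4, 6, 5, 6], [6, 5, 0, 4, 6, 4, 5], [6, 5, 1, 5, 1, 6, 2], [6, 2,
    4], [6, 0, 3, 1, 5, 6, 0], [6, 1, 6, 5, 6, 1], [6, 1, 5, 1, 6], [6, 1, 6, 2, 5, 6], [6, 0, 2, 4, 6, 3], [6, 1, 5, 0], [6, 0, 4, 3, 0, 6,
    5], [6, 5, 0, 4, 6, 2], [6, 5, 3, 0, 5, 6], [6, 5, 3, 0, 6, 5, 0], [6, 2, 4, 1], [6, 4, 1, 2, 6, 5], [6, 2, 4, 3, 2], [6, 0, 2, 0, 5],
    [6, 2, 4, 5], [6, 0, 2, 4, 6, 2, 5], [6, 5, 3, 0, 2, 6, 5], [6, 4, 6, 5, 6, 2], [6, 5, 1, 2, 0], [6, 1, 3], [6, 0, 5, 0, 6, 2], [6, 0,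
    2, 4, 6, 5], [6, 0, 5, 0, 6, 0, 3], [6, 0, 3, 1, 5, 6, 4], [6, 0, 2, 0, 5, 6], [6, 1, 5, 1, 3, 6], [6, 0, 2, 4, 6, 2], [6, 0, 2, 0, 5,
    6, 2], [6, 2, 4, 3, 2, 6, 4], [6, 0, 2, 0, 5, 6, 0], [6, 2, 4, 5, 6, 4]]

def tR : List (ℕ × List ℕ) := [(6, [6, 4, 1, 5, 6]), (17, [6, 0, 5, 3, 2, 6, 2]), (23, [6, 0, 5, 3, 2, 6]), (27, [6, 0, 3, 1, 5, 1, 6]),
    (45, [6, 5, 3, 0, 6]), (51, [6, 4, 1, 5, 6, 5]), (54, [6, 5, 1, 5, 1, 6]), (55, [6, 1, 3, 5, 6, 1]), (64, [6, 1, 3, 5, 6]), (71, [6, 1,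
    5, 0, 5, 6]), (85, [6, 5, 1, 5, 0, 4, 6]), (91, [6, 0, 5, 0, 3, 6]), (92, [6, 0, 4, 1, 2, 6]), (115, [6, 0, 5, 3, 4, 6]), (119, [6, 0,
    4, 3, 0, 6]), (132, [6, 0, 2, 4, 6])]

def tF : List (ℕ × List ℕ) := [(253, [6, 5, 3, 0, 6, 5, 0]), (270, [6, 0, 2, 4, 6, 2])]

def lev : List (ℕ × List InM) := [(0, []), (1, [(5, 0, 0, 1), (2, 0, 1, 2), (3, 0, 0, 3), (2, 0, 2, 0), (3, 0, 0, 1), (0, 1, 4, 0), (7, 112,
    0, 0)]), (64, [(5, 0, 0, 7), (5, 0, 0, 6), (6, 0, 0, 1), (2, 0, 7, 8), (3, 0, 0, 9), (2, 0, 8, 0), (3, 0, 0, 1), (2, 0, 5, 0), (3, 0, 0,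
    1), (0, 1, 6, 0), (7, 80, 0, 0)]), (271, [(5, 0, 0, 15), (5, 0, 0, 14), (5, 0, 0, 8), (5, 0, 0, 1), (6, 0, 0, 9), (2, 0, 15, 16), (3, 0,
    0, 17), (2, 0, 16, 0), (3, 0, 0, 1), (2, 0, 13, 0), (3, 0, 0, 1), (2, 0, 14, 1), (3, 0, 0, 2), (2, 0, 9, 2), (2, 0, 9, 1), (3, 0, 0, 2),
    (0, 1, 11, 0), (7, 29, 0, 0), (0, 1, 12, 3), (7, 26, 0, 0)]), (259, [(5, 0, 0, 29), (5, 0, 0, 28), (5, 0, 0, 22), (5, 0, 0, 14), (5, 0,
    0, 1), (5, 0, 0, 2), (5, 0, 0, 15), (6, 0, 0, 3), (2, 0, 29, 30), (3, 0, 0, 31), (2, 0, 30, 0), (3, 0, 0, 1), (2, 0, 27, 0), (3, 0, 0,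
    1), (2, 0, 28, 1), (3, 0, 0, 2), (2, 0, 23, 2), (2, 0, 23, 1), (3, 0, 0, 2), (2, 0, 13, 0), (2, 0, 13, 3), (0, 1, 13, 1), (7, 9, 0, 0),
    (0, 1, 14, 1), (7, 8, 0, 0)]), (261, [(5, 0, 0, 45), (5, 0, 0, 44), (5, 0, 0, 38), (5, 0, 0, 30), (5, 0, 0, 16), (5, 0, 0, 1), (5, 0, 0,
    2), (5, 0, 0, 17), (5, 0, 0, 18), (5, 0, 0, 31), (6, 0, 0, 19), (2, 0, 45, 46), (3, 0, 0, 47), (2, 0, 46, 0), (3, 0, 0, 1), (2, 0, 43,
    0), (3, 0, 0, 1), (2, 0, 44, 1), (3, 0, 0, 2), (2, 0, 39, 2), (2, 0, 39, 1), (3, 0, 0, 2), (2, 0, 29, 0), (2, 0, 29, 3), (2, 0, 15, 1),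
    (2, 0, 15, 1), (0, 1, 15, 1), (6, 0, 0, 0), (7, 3, 0, 0), (0, 1, 16, 1), (7, 2, 0, 0)]), (261, [(5, 0, 0, 63), (5, 0, 0, 62), (5, 0, 0,
    56), (5, 0, 0, 48), (5, 0, 0, 34), (6, 0, 0, 18), (2, 0, 63, 64), (3, 0, 0, 65), (2, 0, 64, 0), (3, 0, 0, 1), (2, 0, 61, 0), (3, 0, 0,
    1), (2, 0, 62, 1), (3, 0, 0, 2), (2, 0, 57, 2), (3, 0, 0, 3), (2, 0, 58, 2), (3, 0, 0, 3), (2, 0, 48, 0), (3, 0, 0, 1), (2, 0, 49, 5),
    (3, 0, 0, 6), (2, 0, 50, 2), (3, 0, 0, 3), (2, 0, 38, 5), (3, 0, 0, 6), (2, 0, 39, 5), (3, 0, 0, 6), (2, 0, 40, 4), (3, 0, 0, 5), (2, 0,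
    26, 5), (3, 0, 0, 6), (0, 1, 26, 6), (0, 1, 27, 3), (3, 0, 0, 4), (0, 1, 29, 7), (3, 0, 0, 8), (0, 1, 31, 15), (0, 1, 32, 22), (0, 1,
    96, 7), (0, 1, 97, 7), (3, 0, 0, 8), (0, 1, 99, 8), (3, 0, 0, 9), (0, 1, 101, 9), (3, 0, 0, 10), (0, 1, 103, 9), (3, 0, 0, 10), (0, 1,
    105, 10), (3, 0, 0, 11), (0, 1, 107, 11), (3, 0, 0, 12), (0, 1, 102, 8), (0, 1, 103, 7), (0, 1, 96, 3), (0, 1, 97, 3), (3, 0, 0, 4), (0,
    1, 85, 14), (0, 1, 86, 4), (3, 0, 0, 5), (0, 1, 88, 10), (3, 0, 0, 11), (0, 1, 90, 7), (3, 0, 0, 8), (0, 1, 92, 8), (0, 1, 93, 8), (0,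
    1, 26, 24), (0, 1, 27, 14), (0, 1, 28, 8), (0, 1, 29, 21), (0, 1, 30, 21), (0, 1, 31, 7), (3, 0, 0, 8), (0, 1, 33, 8), (3, 0, 0, 9), (0,
    1, 34, 6), (0, 1, 35, 6), (3, 0, 0, 7), (0, 1, 37, 16), (3, 0, 0, 17), (0, 1, 39, 6), (0, 1, 40, 6), (3, 0, 0, 7), (0, 1, 25, 7), (3, 0,
    0, 8), (0, 1, 27, 6), (0, 1, 28, 6), (0, 1, 29, 14), (0, 1, 30, 6), (3, 0, 0, 7), (0, 1, 32, 7), (3, 0, 0, 8), (0, 1, 34, 26), (0, 1,
    26, 7), (0, 1, 27, 7), (0, 1, 28, 5), (0, 1, 29, 4), (0, 1, 30, 4), (0, 1, 30, 20), (0, 1, 31, 2), (0, 1, 29, 69), (0, 1, 30, 16)])]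

variable {Δ : SimpleGraph X} (hΔ : ∀ (s : G) u v, Δ.Adj (s • u) (s • v) ↔ Δ.Adj u v) (L : Loc H₀ Δ (pt 0) (pt 6) (pt 1))

/-- neighbour masks. -/
noncomputable abbrev nb (z : ℕ × List ℕ) : ℕ := Spor.appW nets z.2 A0

include hΔ L

theorem isNb {l : List (ℕ × List ℕ)} (h : allL l (fun z => band (allL z.2 fun j => Nat.blt j 7)
    (tb (Spor.appW nets z.2 (idA 0)) z.1)) = true) : ∀ z ∈ l, IsNb E Δ z.1 (nb z) :=
  isNb_appW rep M hΔ (fun x => (Set.ext_iff.1 orbD x).symm.trans L.mem_b) (by decide) h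

theorem nb1 : IsNb E Δ 1 (nb (1, [6, 2, 0, 5, 0, 5])) := isNb hΔ L (l := [(1, [6, 2, 0, 5, 0, 5])]) (by decide +kernel) _ (by simp)

theorem nbA (p : ℕ) (hp : p < 274 + 1) : IsNb E Δ p (nb (p, nthL [] wA p)) :=
  isNb hΔ L (l := (List.range 275).map fun p => (p, nthL [] wA p)) (by decide +kernel) _
    (List.mem_map_of_mem (List.mem_range.2 hp))

theorem hl (T : Set X) (hT : T ⊆ orbit H₀ (pt 6)) (_ : pt 6 ∉ T) (hi : Inv (H₀ ⊓ stabilizer G (pt 6)) T)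
    (h1 : T.ncard + 1 < 112) (h2 : 162 ∣ 112 * (112 - T.ncard - 1)) :
    T.ncard = 30 ∧ ∀ y ∈ orbit H₀ (pt 6), y ∈ T ↔ Δ.Adj (pt 6) y := by
  rw [orbD] at hT ⊢
  have := set_of_enum codesJ (isNb hΔ L (l := [(6, [6, 4, 1, 5, 6])]) (by decide +kernel) _ List.mem_cons_self)
    (reps := [6, 17, 126]) (bs := [30]) (by decide +kernel) hT hi (by simp; omega)
  exact ⟨this.1.trans (by decide +kernel), this.2⟩

theorem h3 (T : Set X) (hT : T ⊆ orbit H₀ (pt 1)) (_ : pt 1 ∉ T) (hi : Inv (H₀ ⊓ stabilizer G (pt 1)) T)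
    (h1 : T.ncard = 112 - 56) : ∀ y ∈ orbit H₀ (pt 1), y ∈ T ↔ Δ.Adj (pt 1) y := by
  rw [orbG] at hT ⊢
  exact (set_of_enum codesL (nb1 hΔ L) (reps := [1, 2, 21]) (bs := [56]) (by decide +kernel) hT hi (by simp [h1])).2

set_option maxHeartbeats 2000000 in
theorem cardA : Nat.card (autS Δ) ≤ 2 * ((1 + 112 + 162) * 3265920) :=
  card_aut_le (nbA hΔ L) (pack 275 275 fun p => nb (p, nthL [] wA p)) [0, 1, 64, 271, 259, 261, 60, 70, 13, 67, 49, 47, 155, 219, 203, 236, 113] 161 lev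
    (by decide) (by decide +kernel)

theorem sep (y : X) (_ : y ∈ orbit H₀ (pt 1)) (h : ∀ x ∈ orbit H₀ (pt 6), Δ.Adj y x ↔ Δ.Adj (pt 1) x) : y = pt 1 := by
  have := allLt_iff.1 ((force_eq (Nat.land (nb (1, [6, 2, 0, 5, 0, 5])) A0) fun s => allLt 275 fun p => bor (Nat.beq p 1)
    (not (Nat.beq (Nat.land (nb (p, nthL [] wA p)) A0) s))).symm.trans (by decide +kernel)) _ (E.enc_lt y)
  rw [bor_eq, Bool.or_eq_true, nbeq, Bool.not_eq_true', nbeq_false] at this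
  rw [← E.dec_enc y] at h ⊢
  have h0 : A0 < 2 ^ (274 + 1) := by decide
  refine congrArg pt (this.resolve_right fun h1 => h1 (eq_of_enc_bits (E := E) (Nat.and_le_right.trans_lt h0)
    (Nat.and_le_right.trans_lt h0) (1 : G) fun x => ?_))
  rw [one_smul, Nat.land_eq, Nat.land_eq, Nat.testBit_and, Nat.testBit_and, Bool.eq_iff_iff, Bool.and_eq_true,
    Bool.and_eq_true, nbA hΔ L _ (E.enc_lt y), nb1 hΔ L]
  exact and_congr_left fun hx => h x (orbD.ge hx)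

theorem no5 {K : Subgroup G} (hK : K ≤ H₀) {x y : X} (hx : x ∈ orbit H₀ (pt 6)) (hy : y ∈ orbit H₀ (pt 6)) (h : Δ.Adj x y) :
    ¬ 5 ∣ Nat.card ↥(K ⊓ stabilizer G x ⊓ stabilizer G y) := fun h5 => by
  obtain ⟨g, hg, h1⟩ := exists_conj_ge (p := 5) (k := 1) Nat.prime_five (inf_le_left.trans (inf_le_left.trans hK))
    (Subgroup.zpowers_le.2 (fix_W M (ws := [[4, 0]]) (bs := [0]) (by decide +kernel) _ List.mem_cons_self 0 (by simp)))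
    cardH₀ (by decide) h5 (isPGroup_zpowers (j := 1) (orderOf_dvd_iff_pow_eq_one.1
      (orderOf_W M par [4, 0] (o := 5) (by decide) (by decide +kernel)).dvd))
  obtain ⟨k, hk, e⟩ := h1 (Subgroup.mem_zpowers _)
  have key : ∀ x ∈ orbit H₀ (pt 6), k • x = x → ∃ z ∈ tF, z.1 = E.enc (g • x) := fun x hx h => by
    have := allLt_iff.1 (by decide +kernel : allLt 275 (fun p => bor (not (tb A0 p)) (bor (not (Nat.beq
      (actW McLT.act [4, 0] p) p)) (anyL tF fun z => Nat.beq z.1 p))) = true) _ (E.enc_lt (g • x))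
    rw [M.fnW, ← e, tb_eq, show A0.testBit _ = true from orbD.le (inv_orbit H₀ _ g hg x hx)] at this
    simpa [mul_smul, h, anyL_iff, nbeq] using this
  obtain ⟨z, hz, e1⟩ := key x hx hk.1.2
  obtain ⟨z', hz', e2⟩ := key y hy hk.2
  have := allL_iff.1 (allL_iff.1 (by decide +kernel : allL tF (fun z => allL tF fun z' => not (tb (nb z) z'.1)) = true) z hz) z' hz'
  rw [e2, tb_eq, (isNb hΔ L (by decide +kernel) z hz _).2 (by rwa [e1, E.dec_enc, hΔ])] at this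
  exact absurd this (by decide)

theorem deg5 {K : Subgroup G} (hK : K ≤ H₀) (hc : Nat.card K = 20160) {T : Set X} (hT : T ⊆ orbit H₀ (pt 6)) (hi : Inv K T)
    (h : T.ncard = 56) {x : X} (hx : x ∈ T) : 5 ∣ {y | Δ.Adj x y ∧ y ∈ T}.ncard := by
  have e := card_eq_ncard_orbit_mul K x
  have h1 := h ▸ Set.ncard_le_ncard (hi.orbit_sub hx)
  have h2 := Nat.le_of_dvd (by decide) (Nat.dvd_gcd (hc ▸ Subgroup.card_dvd_of_le (inf_le_left (b := stabilizer G x)))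
    (cardJ (hT hx) ▸ Subgroup.card_dvd_of_le (inf_le_inf_right _ hK)))
  have h3 : Nat.card ↥(K ⊓ stabilizer G x) = 5 * 72 := by
    rw [hc] at e
    exact le_antisymm h2 (by nlinarith)
  refine dvd_ncard_of_orbits (K := K ⊓ stabilizer G x) _ _ (Set.toFinite _) rfl (fun g hg y hy => ⟨?_, hi g hg.1 y hy.2⟩)
    fun y hy => (Nat.prime_five.dvd_mul.1 ⟨72, (card_eq_ncard_orbit_mul _ y).symm.trans h3⟩).resolve_right
      (no5 hΔ L hK (hT hx) (hT hy.2) hy.1)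
  rw [← show g • x = x from hg.2, hΔ]
  exact hy.1

def ws0 : List (List ℕ) := [[1, 2, 5, 0, 5, 0, 4, 1, 3], [3, 0, 4, 1, 5, 1, 5, 2, 0], [1, 3, 1, 5, 3, 1, 4, 3, 4], [0, 2, 5, 4, 3, 5, 1, 5, 4], [5, 1, 2, 0, 3, 5, 4, 2, 0], [1, 2, 4, 5, 3, 1, 2, 0, 5], [1, 2, 3, 1, 4, 2, 5, 4, 5, 2, 4], [0, 3, 4, 2, 4, 3, 1]]

def tw4 : List (ℕ × ℕ × List (List ℕ) × List ℕ) := [(0x210a406a008684104140a2046118105084054a14084822005240048000428820040,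
    0x3f516aa78bfd48db5ac2614c283c190ceb6840a0300873fa24554c20df29f3d3b4b2de79aae1ee3643b9ecec823a9d2bb0d87552e478109c2e06fbd0ccdc8636924116ba29aad45017d7303679f19acc65a6592ef339218aa63142182ae372f97abc742e9a2b85bada16b459ac962b057b015aac79441caa83ab114b0d519f942d37c2793a9c4da6994fb4ba592a9449b65227147a391a8c88b59128843c150a337d08902803fa88face3dbdcf278201d94e74251c9205c37afcda6c359a8d26863b74ca6431b0cc26069178ba7022969ea582b959f85429948a250279389a4c259cc92c61b118b64421b8882771f8f87a3c1d8e872380b91c6a34420c86230178b80c2c158a85228138984a2411a0842200f879cc1c7386832181b8582a1409849b010078381a0c058281208038b40a04018080200,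
    [[1, 3, 5, 4, 5, 3, 4, 1, 5, 2, 1], [0, 2, 5, 0, 4, 3, 5, 4, 5, 3, 0], [0, 2, 3, 4, 2, 5, 2, 0, 3, 4, 0], [1, 4, 3, 1, 2, 5, 2, 4, 3, 2, 1], [1, 4, 5, 3, 2, 4, 5, 1, 5, 2], [2, 5, 0, 5, 4, 2, 3, 5, 4, 0], [1, 2, 1, 5, 0, 4, 1, 5, 0, 2, 0], [3, 1, 2, 0, 3, 4, 0]], [1, 5, 0, 3, 0]),
    (0x428101c3500cc034845588a200c818305044400200000880005a50040200408800040,
    0x441faaa78b41ec1d7a3b4fcdb83c186ce554c0a03003d3f93ed3783adf2596f4261d1279aadff0a3abb948ec823a9d2e341be130e487c35c2e06f955e4dc5036932d96bbedaad4861f124ca67c0d9acc6596d9308373a18a7188bbd82d668af97abc532e9c4b85bad8e6b459ac962b0579dd5aac672888aa87bbe94a22519c142fc7aa793a9c4da69cc5c4ba592a944991d223747a391a8c6ea11128843b610ac24599902803fb10fa423da18f2780d9d990745d9c8be1137ae4da6c359a8d268242b8ca643199cc26060178ba4a2016866582b9582e5429948a250279389a4c25c14930b53919044421b9c82d21f8f87a3c1d8e872385aa286a34310c86230178b98c2c158a85228138984a2411afc42200f879201c618683218638582a14098480c10078381a0c058281208038b40a04018080200,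
    [[0, 5, 1, 2, 3, 2, 4, 3, 5], [5, 3, 4, 2, 3, 2, 0, 5, 1], [2, 3, 5, 2, 3, 2, 1, 4, 0, 5], [5, 1, 4, 0, 2, 3, 2, 5, 3, 2], [2, 1, 3, 5, 0, 3, 4, 5, 4, 0], [1, 3, 0, 2, 5, 2, 0, 3, 4, 2], [1, 2, 0, 4, 5, 3, 2, 5, 0, 5, 3], [2, 1, 4, 3, 1, 5, 0, 3, 4]], [3, 4, 2, 0]),
    (0x3d728a1c2a920680700850000425400000818548b40c4122000000088000020020000,
    0x3c6250f873e154fc5244144f083c194f098540a03007abf9d6a979311f2f786b21dafd79b09ecef63bba22ec533a9d2ab7d411e8e47fa2dc2e06fb0e10dc72b6884bb6bb79aad471b9dd0e267a7d9acc65b7592db202d58a4a4c34d82d16b2f97abc682e90cb85bad88ab459ac962b057b395aac0d9f8cca82ca0d4a3751a1142623d2793a9c4da68aa334ba592a94499d5227047a391a8c388891288438750b0c7da4102803fc0cfb053db00f2785f9d94074859c88ee637a28da6c359a8d2686ca64ca6431b48c26065178ba5b3e16904582b958b85429948a250279389a4c25ab89248339182e44219b882361f8f87a3c1d8e87238632e46a346c0c86230178b9242c158a85228138984a24119dc42200f878e61c0886832182f8582a14098485a10078381a0c058281208038180a04018080200,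
    [[4, 5, 2, 4, 1, 5, 0, 2, 4, 0], [1, 4, 2, 1, 5, 0, 4, 2, 5, 4], [4, 5, 1, 4, 2, 1, 5, 3, 5, 1], [0, 5, 3, 5, 0, 2, 4, 0, 5, 4], [4, 1, 2, 3, 1, 5, 4, 3, 5], [5, 3, 4, 5, 0, 3, 2, 0, 4], [2, 5, 4, 0, 4, 2, 5, 4, 0, 4], [2, 5, 4, 3, 5, 2, 5, 3, 4, 5, 2]], []),
    (0x7fd2819f109e4030e41c9800008c40200041c000a0040180000810080200000000000,
    0x44a231087c3a1b0c85c2a130883c1a0b0481c0a03007fbf9fafc7dbe9f2f87bbd9eaf479bc9e2f077bb9daec75ba9d2e873b99cae471b89c2e06fb79badc6db69b2d86bb59aad469b49a2d067b399acc65b2992c863b198ac461b0982c05faf97abc5dae972b85bad96ab459ac962b057ab95aac55aa952a853a994aa451a8942a04fa793a9c4da6932984ba592a9449a49229047a391a8c45a29128843a190a8441a0902803f9f8fa7c3d9e8f2783b9d8ea74399c8e270379b8da6c359a8d26833998ca6431988c2602f978ba5c2d968b2582b958aa5429948a250279389a4c259289248239188a442190882401f8f87a3c1d8e872381b8d86a34198c86230178b85a2c158a85228138984a241188842200f8783a1c0d86832180b8582a14098482210078381a0c058281208038180a04018080200,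
    [[1, 2, 5, 0, 5, 0, 4, 1, 3], [3, 0, 4, 1, 5, 1, 5, 2, 0], [1, 3, 1, 5, 3, 1, 4, 3, 4], [0, 2, 5, 4, 3, 5, 1, 5, 4], [5, 1, 2, 0, 3, 5, 4, 2, 0], [1, 2, 4, 5, 3, 1, 2, 0, 5], [1, 2, 3, 1, 4, 2, 5, 4, 5, 2, 4], [0, 3, 4, 2, 4, 3, 1]], [])]

noncomputable def okW (ws : List (List ℕ)) : Bool :=
  band (allL ([] :: ws) fun wd => band (Nat.blt 0 (274 + 1)) (Nat.beq (actW McLT.act wd 0) 0))
    (band (allL U43P.rels fun r => eqB (fun i => actW McLT.act (nthL [] ws i)) [5,4,3,2,1,0] r.reverse [])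
      (anyLt (274 + 1) fun p => not (Nat.beq (actW McLT.act (nthL [] ws 0) p) p)))

noncomputable def okT (z : ℕ × ℕ × List (List ℕ) × List ℕ) : Bool :=
  band (band (okW z.2.2.1) (band (Nat.beq (actW McLT.act z.2.2.2 0) 0) (Nat.beq (get 9 511 z.2.1 (actW McLT.act z.2.2.2 6)) 6)))
    (force (nb (1, [6, 2, 0, 5, 0, 5])) fun s => allLt 275 fun p => bor (not (tb A0 p)) (force (get 9 511 z.2.1 p) fun q =>
      band (band (Nat.blt q (274 + 1)) (bif' (tb s q) (tb z.1 p) (not (tb z.1 p)))) (allLt 8 fun i =>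
        Nat.beq (get 9 511 z.2.1 (actW McLT.act (nthL [] ws0 i) p)) (actW McLT.act (nthL [] z.2.2.1 i) q))))

noncomputable def bad (ps ms : List ℕ) (u : ℕ) : Bool := bor (anyL ps fun p => band (tb u p) (band (Nat.blt p (274 + 1))
  (not (Nat.beq (pop5 0x111111111111111111111111111111111111111111111111111111111111111111111 (Nat.land (lk (fun _ => 0) p ps ms) u)) 0))))
  (anyL tw4 fun z => Nat.beq z.1 u)

/-- the low bits of the numeral are made generic. -/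
def salt (f : ℕ → Bool) (u : ℕ) : Bool :=
  force (Nat.add (Nat.mul u 4294967296) (Nat.mod u 4294967291)) fun s => f (Nat.div s 4294967296)

omit hΔ L in
theorem salt_eq (f : ℕ → Bool) : salt f = f := funext fun u => (force_eq _ _).trans (congrArg f (by
  change (u * 4294967296 + u % 4294967291) / 4294967296 = u; omega))

omit hΔ L in
set_option maxHeartbeats 4000000 in
theorem chk : enumOK (274 + 1) 9 511 (cd [[4, 3, 0]]) [6, 17, 23, 27, 45, 51, 54, 55, 64, 71, 85, 91, 92, 115, 119, 132] A0 [56]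
    (bad (mapL Prod.fst tR) (mapL nb tR)) = true := by
  have : (forceL (mapL Prod.fst tR) fun ps => forceL (mapL nb tR) fun ms => enumOK (274 + 1) 9 511 (cd [[4, 3, 0]])
    [6, 17, 23, 27, 45, 51, 54, 55, 64, 71, 85, 91, 92, 115, 119, 132] A0 [56] (salt (bad ps ms))) = true := by decide +kernel
  rwa [forceL_eq, forceL_eq, salt_eq] at this

omit hΔ L in
theorem iso [IsSimpleGroup U43P.G] {ws : List (List ℕ)} (h : okW ws = true) :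
    ∃ ψ : U43P.G ≃* H₀, ∀ i < 8, (ψ (U43P.g i)).1 = W McLT.y (nthL [] ws i) :=
  iso_of_lifts M U43P.lifts (cardH₀.trans U43P.card.symm) h

set_option maxHeartbeats 2000000 in
theorem h2 [IsSimpleGroup U43P.G] (K : Subgroup G) (hK : K ≤ H₀) (h : Nat.card K * 162 = 3265920) (T : Set X)
    (hT : T ⊆ orbit H₀ (pt 6)) (hi : Inv K T) (hm : T.ncard = 56) :
    ∃ (α : H₀ ≃* H₀) (u : H₀), (∀ g : H₀, g.1 ∈ K → α g • pt 1 = pt 1) ∧ (∀ g : H₀, g • u • pt 6 = u • pt 6 ↔ α g • pt 6 = pt 6) ∧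
      ∀ g : H₀, g • u • pt 6 ∈ T ↔ Δ.Adj (pt 1) (α g • pt 6) := by
  have hc : Nat.card K = 20160 := by omega
  obtain ⟨g, hg, h7⟩ := exists_conj_ge (p := 7) (k := 1) Nat.prime_seven hK
    (Subgroup.zpowers_le.2 (fix_W M (ws := [[4, 3, 0]]) (bs := [0]) (by decide +kernel) _ List.mem_cons_self 0 (by simp)))
    cardH₀ (by decide) (by rw [hc]; decide) (isPGroup_zpowers (j := 1) (orderOf_dvd_iff_pow_eq_one.1
      (orderOf_W M par [4, 3, 0] (o := 7) (by decide) (by decide +kernel)).dvd))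
  have a1 : g • T ⊆ orbit H₀ (pt 6) := by rintro _ ⟨x, hx, rfl⟩; exact inv_orbit H₀ _ g hg x (hT hx)
  have a2 : Inv (K.map (MulAut.conj g).toMonoidHom) (g • T) := by
    rintro _ ⟨k, hk, rfl⟩ _ ⟨x, hx, rfl⟩
    exact ⟨_, hi k hk x hx, by simp [mul_smul]⟩
  have a3 : (g • T).ncard = 56 := (Set.ncard_smul_set _ _).trans hm
  obtain ⟨u, hu, e, h1⟩ := enum_sound (codes_W M par (by simpa using h7 (Subgroup.mem_zpowers _))) chk (orbD ▸ a1) a2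
    (by simp [a3])
  simp only [bad, bor_eq, Bool.or_eq_true, anyL_iff, band_eq, Bool.and_eq_true, Bool.not_eq_true', nbeq_false, nblt,
    tb_eq, nbeq] at h1
  obtain ⟨p, h0, h2, h3, h4⟩ | ⟨z, hz, rfl⟩ := h1
  · refine (h4 ((pop5_eq (Nat.and_le_right.trans_lt hu) (by decide +kernel)).trans (Nat.mod_eq_zero_of_dvd ?_))).elim
    rw [← ncard_St (E := E)]
    refine (deg5 hΔ L (map_conj_le hK hg) ((card_map_conj _ _).trans hc) a1 a2 a3 (e.ge (dec_mem_St (b := p)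
      (by simp [h2, nblt.2 h3])))).trans (congrArg _ (Set.ext fun y => ?_)).dvd
    rw [e]
    exact (and_congr_left' ((lk_mem (d := fun _ => 0) (isNb hΔ L (l := tR) (by decide +kernel))).1 h0 y).symm).trans
      (Nat.testBit_and _ _ _ ▸ Bool.and_eq_true_iff).symm
  have h5 := allL_iff.1 (by decide +kernel : allL tw4 okT = true) z hz
  simp only [okT, force_eq, band_eq, Bool.and_eq_true, allLt_iff, bor_eq, Bool.or_eq_true, Bool.not_eq_true', nbeq, nblt,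
    tb_eq] at h5
  obtain ⟨⟨b1, b2, b3⟩, b4⟩ := h5
  have b5 := fun x (hx : x ∈ orbit H₀ (pt 6)) =>
    (b4 _ (E.enc_lt x)).resolve_left (Bool.eq_false_iff.not.2 (not_not.2 (orbD.le hx)))
  obtain ⟨ψ, hψ⟩ := iso (ws := ws0) (by decide +kernel)
  obtain ⟨ψ', hψ'⟩ := iso b1
  refine twisted (H := H₀) (fun g => hΔ g) _ (fun x => pt (get 9 511 z.2.1 (E.enc x))) (compat (f := fun x => pt (get 9 511 z.2.1 (E.enc x))) U43P.rep.top ψ ψ'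
    (fun h => inv_orbit H₀ _ h h.2) fun i hi x hx => ?_) ⟨W McLT.y z.2.2.2, smul_dec M (by simp [b2])⟩ ?_ (sep hΔ L)
    ⟨g, hg⟩ hi fun x hx => ?_
  · change pt (get 9 511 z.2.1 (E.enc ((ψ _).1 • x))) = (ψ' _).1 • _
    rw [hψ i hi, hψ' i hi, ← M.fnW, (b5 x hx).2 i hi]
    exact (smul_dec M (by simp [nblt.2 (b5 x hx).1.1])).symm
  · change pt (get 9 511 z.2.1 (E.enc (W McLT.y z.2.2.2 • pt 6))) = _
    rw [← M.fnW]
    exact congrArg pt b3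
  · have b6 := (b5 _ (inv_orbit H₀ _ g hg x hx)).1
    rw [← Set.smul_mem_smul_set_iff (a := g), e, ← nb1 hΔ L]
    have b7 := b6.2
    change z.1.testBit (E.enc (g • x)) = true ↔ Nat.testBit _ (E.enc (E.dec (get 9 511 z.2.1 (E.enc (g • x))))) = true
    rw [E.enc_dec _ b6.1]
    revert b7
    cases Nat.testBit (nb _) _ <;> simp [bif']

end Cfsg.Agent.R3.Mc
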