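import Cfsg.Agent.R3.RuA
import Cfsg.Agent.R3.Aut

/-! The automorphism group of the Rudvalis graph has order at most `2 |Ru|` (helper22). -/

set_option autoImplicit false
set_option maxRecDepth 100000
set_option exponentiation.threshold 100000

namespace Cfsg.Agent.R3.Ru

open MulAction Equiv Cfsg.Agent.Comp Cfsg.Agent.Perm Cfsg.Agent.Known Spor.MdRu

def tU : List (ℕ × List ℕ) := [(8, [6, 0, 0]), (46, [6, 0, 0, 6]), (77, [6, 1, 3, 4]), (117, [6, 2, 5, 2]), (139, [6, 3, 5, 2]),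
    (140, [6, 3, 5, 3]), (160, [6, 4, 2, 0]), (215, [6, 0, 0, 3, 5]), (222, [6, 0, 0, 5, 2]), (227, [6, 0, 0, 6, 1]), (232, [6, 0,
    2, 0, 2]), (242, [6, 0, 2, 2, 4]), (302, [6, 0, 5, 0, 3]), (303, [6, 0, 5, 0, 4]), (362, [6, 1, 2, 4, 2]), (376, [6, 1, 3, 4,
    6]), (472, [6, 2, 0, 5, 0]), (534, [6, 2, 5, 0, 2]), (538, [6, 2, 5, 1, 2]), (548, [6, 2, 5, 2, 6]), (556, [6, 2, 5, 4, 5]),
    (573, [6, 2, 6, 1, 5]), (586, [6, 2, 6, 4, 3]), (626, [6, 3, 4, 3, 0]), (640, [6, 3, 5, 2, 6]), (645, [6, 3, 5, 3, 6]), (662,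
    [6, 3, 6, 1, 5]), (700, [6, 4, 0, 5, 0]), (719, [6, 4, 1, 5, 2]), (746, [6, 4, 2, 6, 3]), (762, [6, 4, 3, 5, 4]), (776, [6, 4,
    5, 2, 4]), (845, [6, 5, 2, 1, 2]), (938, [6, 0, 0, 3, 5, 6]), (966, [6, 0, 0, 5, 2, 6]), (986, [6, 0, 0, 6, 1, 6]), (1007, [6,
    0, 2, 0, 2, 6]), (1073, [6, 0, 3, 4, 2, 5]), (1135, [6, 0, 4, 0, 2, 5]), (1155, [6, 0, 4, 1, 5, 3]), (1205, [6, 0, 4, 5, 3,
    5]), (1245, [6, 0, 5, 0, 3, 6]), (1247, [6, 0, 5, 0, 4, 6]), (1255, [6, 0, 5, 0, 6, 5]), (1292, [6, 0, 5, 4, 5, 2]), (1413,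
    [6, 1, 2, 2, 6, 2]), (1420, [6, 1, 2, 4, 1, 2]), (1425, [6, 1, 2, 4, 2, 6]), (1448, [6, 1, 2, 6, 3, 5]), (1452, [6, 1, 2, 6,
    4, 3]), (1509, [6, 1, 4, 0, 5, 3]), (1545, [6, 1, 4, 3, 0, 4]), (1593, [6, 1, 5, 3, 4, 3]), (1604, [6, 1, 5, 4, 2, 4]), (1705,
    [6, 1, 6, 5, 2, 5]), (1744, [6, 2, 0, 5, 6, 3]), (1849, [6, 2, 4, 2, 5, 0]), (1895, [6, 2, 5, 0, 4, 1]), (1904, [6, 2, 5, 1,
    2, 6]), (2094, [6, 3, 4, 3, 0, 6]), (2101, [6, 3, 4, 3, 5, 3]), (2108, [6, 3, 4, 5, 3, 4]), (2196, [6, 3, 6, 3, 5, 1]), (2206,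
    [6, 3, 6, 5, 1, 2]), (2228, [6, 4, 0, 2, 5, 1]), (2300, [6, 4, 2, 2, 6, 1]), (2338, [6, 4, 3, 4, 5, 0]), (2351, [6, 4, 3, 5,
    3, 0]), (2396, [6, 4, 5, 2, 4, 0]), (2739, [6, 0, 0, 4, 1, 5, 4]), (2776, [6, 0, 0, 5, 6, 4, 0]), (2817, [6, 0, 0, 6, 4, 0,
    4]), (2894, [6, 0, 2, 4, 6, 4, 2]), (2942, [6, 0, 3, 4, 5, 6, 3]), (2987, [6, 0, 3, 6, 2, 2, 4]), (3032, [6, 0, 4, 0, 6, 2,
    1]), (3236, [6, 0, 6, 0, 3, 5, 0]), (3545, [6, 1, 6, 0, 4, 5, 2])]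

def tB : List (ℕ × List ℕ) := [(8, [6, 0, 0]), (46, [6, 0, 0, 6]), (117, [6, 2, 5, 2]), (626, [6, 3, 4, 3, 0]), (139, [6, 3, 5,
    2]), (700, [6, 4, 0, 5, 0]), (966, [6, 0, 0, 5, 2, 6]), (2739, [6, 0, 0, 4, 1, 5, 4]), (719, [6, 4, 1, 5, 2]), (2351, [6, 4,
    3, 5, 3, 0]), (645, [6, 3, 5, 3, 6]), (2094, [6, 3, 4, 3, 0, 6]), (2817, [6, 0, 0, 6, 4, 0, 4]), (2228, [6, 4, 0, 2, 5, 1]),
    (227, [6, 0, 0, 6, 1]), (2942, [6, 0, 3, 4, 5, 6, 3]), (1448, [6, 1, 2, 6, 3, 5]), (2396, [6, 4, 5, 2, 4, 0]), (222, [6, 0, 0,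
    5, 2]), (1007, [6, 0, 2, 0, 2, 6]), (77, [6, 1, 3, 4])]

def tR : List (ℕ × List ℕ) := [(1, [6]), (2, [6, 0]), (4, [6, 2]), (5, [6, 3]), (6, [6, 4]), (8, [6, 0, 0])]

def lev : List (ℕ × List InM) := [(8, []), (46, [(5, 0, 0, 1), (2, 0, 1, 2), (3, 0, 0, 3), (2, 0, 2, 0), (3, 0, 0, 1), (0, 1, 4,
    0), (0, 1, 6, 0), (6, 0, 0, 0), (3, 0, 0, 1), (4, 1, 1, 0), (3, 0, 0, 1), (5, 0, 0, 0)]), (222, [(5, 0, 0, 11), (5, 0, 0, 10),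
    (5, 0, 0, 4), (6, 0, 0, 3)]), (1509, [(5, 0, 0, 12), (5, 0, 0, 11), (5, 0, 0, 1), (5, 0, 0, 5), (6, 0, 0, 4), (2, 0, 12, 13),
    (3, 0, 0, 14), (2, 0, 13, 0), (3, 0, 0, 1), (2, 0, 10, 0), (3, 0, 0, 1), (2, 0, 11, 1), (0, 1, 7, 0), (3, 0, 0, 1), (0, 1, 9,
    3), (0, 1, 22, 0), (0, 1, 12, 3), (5, 0, 0, 0), (0, 1, 13, 3), (0, 1, 14, 2), (3, 0, 0, 3), (0, 1, 1, 7), (5, 0, 0, 0), (0, 1,
    2, 3), (6, 0, 0, 0), (3, 0, 0, 4), (0, 1, 4, 3), (3, 0, 0, 4), (0, 1, 2, 0), (3, 0, 0, 1), (5, 0, 0, 0)]), (1509, [(5, 0, 0,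
    35), (5, 0, 0, 34), (5, 0, 0, 24), (6, 0, 0, 23), (2, 0, 35, 36), (3, 0, 0, 37), (2, 0, 36, 0), (3, 0, 0, 1), (2, 0, 33, 0),
    (3, 0, 0, 1), (2, 0, 34, 1), (3, 0, 0, 2), (2, 0, 32, 0), (3, 0, 0, 1), (2, 0, 33, 0), (3, 0, 0, 1), (2, 0, 27, 5), (3, 0, 0,
    6), (2, 0, 27, 8), (3, 0, 0, 9), (2, 0, 28, 1), (3, 0, 0, 2), (2, 0, 28, 4), (3, 0, 0, 5), (0, 1, 20, 8), (3, 0, 0, 9), (0, 1,
    57, 6), (3, 0, 0, 7), (0, 1, 48, 3), (0, 1, 49, 3), (3, 0, 0, 4), (0, 1, 51, 9), (3, 0, 0, 10), (0, 1, 53, 6), (3, 0, 0, 7),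
    (0, 1, 55, 7), (3, 0, 0, 8), (0, 1, 42, 13), (0, 1, 43, 8), (0, 1, 44, 7), (3, 0, 0, 8), (0, 1, 46, 8), (0, 1, 47, 8), (0, 1,
    48, 8), (3, 0, 0, 9), (0, 1, 50, 8), (3, 0, 0, 9), (0, 1, 49, 30), (3, 0, 0, 31), (0, 1, 51, 20), (0, 1, 52, 6), (0, 1, 53,
    4), (3, 0, 0, 5), (0, 1, 54, 12), (3, 0, 0, 13), (0, 1, 56, 13), (3, 0, 0, 14), (0, 1, 58, 6), (3, 0, 0, 7), (0, 1, 60, 7),
    (0, 1, 61, 7), (0, 1, 23, 30), (0, 1, 24, 2), (0, 1, 24, 1), (0, 1, 25, 19), (3, 0, 0, 20), (0, 1, 27, 3), (3, 0, 0, 4), (0,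
    1, 29, 7), (3, 0, 0, 8), (0, 1, 27, 5), (0, 1, 28, 1), (3, 0, 0, 2), (0, 1, 24, 7), (3, 0, 0, 8), (0, 1, 26, 6)])]

variable {Δ : SimpleGraph X} (hΔ : ∀ (s : G) u v, Δ.Adj (s • u) (s • v) ↔ Δ.Adj u v) (L : Loc H₀ Δ (pt 0) (pt 3594) (pt 1))

include hΔ L

set_option maxHeartbeats 2000000 in
theorem invU : Inv (aut2 Δ (pt 0) (pt 1)) (St E (maskL (mapL Prod.fst tU))) :=
  inv_cell codesL (f := tri Δ (pt 0) (pt 1)) (fun g hg => tri_smul (hΔ g) hg.1 hg.2) (fun g (hg : g ∈ aut2 Δ _ _) => tri_smul (g := g) hg.1.1 hg.1.2 hg.2)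
    (orbG ▸ L.inv_aut.2.mono inf_le_left) (l := tR) (F := fun z => popc (4059 + 1) (Nat.land A0 (Nat.land (nb (1, [6])) (nb z))))
    (fun z hz => tri_eq (nb0 L) (nb1 hΔ L) (isNb hΔ L (by decide +kernel) z hz)) (z₀ := (8, [6, 0, 0])) (by decide)
    (by decide +kernel)

set_option maxHeartbeats 2000000 in
theorem cardA : Nat.card (autS Δ) ≤ 2 * ((1 + 1755 + 2304) * 35942400) :=
  (card_autS_le (Nat.card_eq_fintype_card.trans (Fintype.card_fin _)) L.inv_aut.2 (mem_orbit_self _) ncG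
    (card_le_cell (A := aut2 Δ _ _) (l₀ := [0]) (lB := tB) (fun _ h => h.1.1) (isNb hΔ L (by decide +kernel))
      (isNb hΔ L (by decide +kernel)) (fun _ h _ hg => List.mem_singleton.1 h ▸ hg.1.2) (invU hΔ L) (by decide +kernel)
      109 lev (N := 31200) (by decide) (by decide +kernel))).trans (by decide)

end Cfsg.Agent.R3.Ru
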